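import Groth.Agent.Lead.FittingLoc
import Mathlib

set_option autoImplicit false
set_option linter.unusedSectionVars false

open TensorProduct Groth.Agent.Lead

namespace Groth.Agent.H71.FittX

universe u v

/-- Fitting ideals below the rank vanish for finite projective modules of constant rank -/
theorem fitt_ideal_eq_bot_of_rankAtStalk {A : Type u} [CommRing A] (Q : Type v) [AddCommGroup Q]
    [Module A Q] [Module.Finite A Q] [Module.Projective A Q] (k : ℕ)
    (hk : ∀ p : PrimeSpectrum A, Module.rankAtStalk (R := A) Q p = k) (j : ℕ) (hj : j < k) :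
    Fitt.ideal A Q j = ⊥ := by
  rw [eq_bot_iff]
  intro d hd
  rw [Ideal.mem_bot]
  apply eq_zero_of_forall_prime_exists_pow_mul_eq_zero
  intro p _
  have : Module.FinitePresentation A Q := Module.finitePresentation_of_projective _ _
  have : Module.Free (Localization.AtPrime p) (LocalizedModule p.primeCompl Q) :=
    Module.free_of_flat_of_isLocalRing
  obtain ⟨r, hr, hfree, hrank⟩ := Module.FinitePresentation.exists_free_localizedModule_powers
    p.primeCompl (LocalizedModule.mkLinearMap p.primeCompl Q) (Localization.AtPrime p)
  have hrk : Module.finrank (Localization.AtPrime p) (LocalizedModule p.primeCompl Q) = k :=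
    hk ⟨p, inferInstance⟩
  rw [hrk] at hrank
  refine ⟨r, hr, ?_⟩
  have hnt : Nontrivial (Localization (Submonoid.powers r)) :=
    (show Localization (Submonoid.powers r) →+* Localization.AtPrime p from
      IsLocalization.map (M := Submonoid.powers r) (T := p.primeCompl) _
      (RingHom.id _) (Submonoid.powers_le.mpr hr)).domain_nontrivial
  let b : Module.Basis (Fin k) (Localization (Submonoid.powers r))
      (LocalizedModule (Submonoid.powers r) Q) := Module.finBasisOfFinrankEq _ _ hrank
  have h0 := fitt_ideal_eq_bot_of_basis b hj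
  rw [fitt_ideal_localization (Submonoid.powers r) (Localization (Submonoid.powers r))
    (LocalizedModule.mkLinearMap (Submonoid.powers r) Q) j] at h0
  have hd0 : algebraMap A (Localization (Submonoid.powers r)) d = 0 := by
    have : algebraMap A (Localization (Submonoid.powers r)) d ∈
        (Fitt.ideal A Q j).map (algebraMap A (Localization (Submonoid.powers r))) :=
      Ideal.mem_map_of_mem _ hd
    rw [h0] at this
    exact this
  rw [IsLocalization.map_eq_zero_iff (Submonoid.powers r)] at hd0
  obtain ⟨⟨_, m, rfl⟩, hm⟩ := hd0
  exact ⟨m, hm⟩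

/-- S14345 -/
theorem fittingIdeal_map_eq_bot_of_grassmannian (R : Type u) [CommRing R]
    (M : Type v) [AddCommGroup M] [Module R M] [Module.Finite R M] (k : ℕ)
    (A : Type u) [CommRing A] [Algebra R A] (N : Module.Grassmannian A (A ⊗[R] M) k)
    (j : ℕ) (hj : j < k) :
    (Fitt.ideal R M j).map (algebraMap R A) = ⊥ := by
  rw [← fitt_ideal_baseChange (R' := A) (M := M) j, eq_bot_iff]
  refine le_trans (fitt_ideal_le_of_surjective' (N.toSubmodule.mkQ)
    (Submodule.mkQ_surjective _) j) ?_
  rw [fitt_ideal_eq_bot_of_rankAtStalk _ k N.rankAtStalk_eq j hj]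

end Groth.Agent.H71.FittX
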