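import Groth.Agent.H71.FittX.Minors

set_option autoImplicit false
set_option linter.unusedSectionVars false

open Groth.Agent.Lead Matrix

namespace Groth.Agent.H71.FittX

universe u

variable {R : Type u} [CommRing R] {m n : ℕ}

/-- the matrix of a linear map between standard free modules -/
def matOf (σ : (Fin m → R) →ₗ[R] (Fin n → R)) : Matrix (Fin n) (Fin m) R :=
  Matrix.of fun i l => σ (Pi.single l 1) i

lemma sum_smul_single {k : ℕ} (v : Fin k → R) : ∑ i, v i • (Pi.single i (1 : R) : Fin k → R) = v := by
  funext j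
  simp [Finset.sum_apply, Pi.single_apply]

lemma range_eq_span_cols (σ : (Fin m → R) →ₗ[R] (Fin n → R)) :
    LinearMap.range σ = Submodule.span R (Set.range fun l : Fin m => fun i : Fin n => matOf σ i l) := by
  have h1 : (fun l : Fin m => fun i : Fin n => matOf σ i l) =
      σ ∘ (fun l : Fin m => (Pi.single l (1 : R) : Fin m → R)) := by
    funext l i
    rfl
  have h2 : Submodule.span R (Set.range fun l : Fin m => (Pi.single l (1 : R) : Fin m → R)) = ⊤ := by
    rw [eq_top_iff]
    intro v _
    rw [← sum_smul_single v]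
    exact Submodule.sum_mem _ fun i _ => Submodule.smul_mem _ _ (Submodule.subset_span ⟨i, rfl⟩)
  rw [h1, Set.range_comp, ← Submodule.map_span, h2, Submodule.map_top]

section cokernel

variable (σ : (Fin m → R) →ₗ[R] (Fin n → R))

/-- generators of the cokernel -/
def xgen : Fin n → ((Fin n → R) ⧸ LinearMap.range σ) :=
  fun i => (LinearMap.range σ).mkQ (Pi.single i 1)

lemma sum_smul_xgen (v : Fin n → R) : ∑ i, v i • xgen σ i = (LinearMap.range σ).mkQ v := by
  simp only [xgen]
  rw [← sum_smul_single v, map_sum]
  simp only [map_smul]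
  congr 1
  funext i
  rw [sum_smul_single v]

lemma span_xgen : Submodule.span R (Set.range (xgen σ)) = ⊤ := by
  rw [eq_top_iff]
  intro y _
  obtain ⟨v, rfl⟩ := Submodule.mkQ_surjective _ y
  rw [← sum_smul_xgen]
  exact Submodule.sum_mem _ fun i _ => Submodule.smul_mem _ _ (Submodule.subset_span ⟨i, rfl⟩)

lemma relations_xgen : relations R (xgen σ) = LinearMap.range σ := by
  ext v
  rw [mem_relations, sum_smul_xgen, Submodule.mkQ_apply, Submodule.Quotient.mk_eq_zero]

theorem fitt_coker (k : ℕ) :
    Fitt.ideal R ((Fin n → R) ⧸ LinearMap.range σ) k = minors (matOf σ) (n - k) := by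
  rw [fitt_ideal_eq_minorIdeal (xgen σ) (span_xgen σ) k, relations_xgen, range_eq_span_cols,
    minorIdeal_cols]

end cokernel

end Groth.Agent.H71.FittX
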