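import Groth.Agent.H71.FittX.Coker

set_option autoImplicit false
set_option linter.unusedSectionVars false

open Groth.Agent.Lead Matrix

namespace Groth.Agent.H71.FittX

universe u

variable {R : Type u} [CommRing R] {m n : ℕ}

section dual

variable (σ : (Fin m → R) →ₗ[R] (Fin n → R))

/-- coordinate functionals -/
def coordF (k : ℕ) (l : Fin k) : Module.Dual R (Fin k → R) := LinearMap.proj l

lemma dual_eq_sum {k : ℕ} (φ : Module.Dual R (Fin k → R)) :
    φ = ∑ l, φ (Pi.single l 1) • coordF (R := R) k l := by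
  apply LinearMap.ext
  intro v
  conv_lhs => rw [← sum_smul_single v]
  rw [map_sum, LinearMap.sum_apply]
  refine Finset.sum_congr rfl fun l _ => ?_
  rw [map_smul, LinearMap.smul_apply, coordF, LinearMap.proj_apply, smul_eq_mul, smul_eq_mul,
    mul_comm]

lemma sum_smul_coordF_apply {k : ℕ} (w : Fin k → R) (l : Fin k) :
    (∑ l', w l' • coordF (R := R) k l') (Pi.single l 1) = w l := by
  rw [LinearMap.sum_apply]
  simp [coordF, Pi.single_apply]

/-- generators of the cokernel of the dual map -/
def ygen : Fin m → (Module.Dual R (Fin m → R) ⧸ LinearMap.range σ.dualMap) :=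
  fun l => (LinearMap.range σ.dualMap).mkQ (coordF m l)

lemma sum_smul_ygen (w : Fin m → R) :
    ∑ l, w l • ygen σ l = (LinearMap.range σ.dualMap).mkQ (∑ l, w l • coordF (R := R) m l) := by
  simp only [ygen]
  rw [map_sum]
  simp only [map_smul]

lemma span_ygen : Submodule.span R (Set.range (ygen σ)) = ⊤ := by
  rw [eq_top_iff]
  intro y _
  obtain ⟨φ, rfl⟩ := Submodule.mkQ_surjective _ y
  rw [dual_eq_sum φ, ← sum_smul_ygen]
  exact Submodule.sum_mem _ fun i _ => Submodule.smul_mem _ _ (Submodule.subset_span ⟨i, rfl⟩)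

lemma dualMap_coordF (i : Fin n) :
    σ.dualMap (coordF n i) = ∑ l, matOf σ i l • coordF (R := R) m l := by
  rw [dual_eq_sum (σ.dualMap (coordF n i))]
  refine Finset.sum_congr rfl fun l _ => ?_
  rfl

lemma relations_ygen :
    relations R (ygen σ) =
      Submodule.span R (Set.range fun i : Fin n => fun l : Fin m => matOf σ i l) := by
  apply le_antisymm
  · intro w hw
    rw [mem_relations, sum_smul_ygen, Submodule.mkQ_apply, Submodule.Quotient.mk_eq_zero] at hw
    obtain ⟨φ, hφ⟩ := hw
    have hw' : w = ∑ i, φ (Pi.single i 1) • (fun l : Fin m => matOf σ i l) := by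
      funext l
      rw [← sum_smul_coordF_apply w l, ← hφ, dual_eq_sum φ, map_sum, LinearMap.sum_apply,
        Finset.sum_apply]
      refine Finset.sum_congr rfl fun i _ => ?_
      rw [map_smul, dualMap_coordF, LinearMap.smul_apply, sum_smul_coordF_apply,
        ← dual_eq_sum φ]
      rfl
    rw [hw']
    exact Submodule.sum_mem _ fun i _ => Submodule.smul_mem _ _ (Submodule.subset_span ⟨i, rfl⟩)
  · rw [Submodule.span_le]
    rintro _ ⟨i, rfl⟩
    change _ ∈ relations R (ygen σ)
    rw [mem_relations, sum_smul_ygen, Submodule.mkQ_apply, Submodule.Quotient.mk_eq_zero,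
      ← dualMap_coordF]
    exact ⟨_, rfl⟩

theorem fitt_dual_coker (j : ℕ) :
    Fitt.ideal R (Module.Dual R (Fin m → R) ⧸ LinearMap.range σ.dualMap) j =
      minors (matOf σ) (m - j) := by
  rw [fitt_ideal_eq_minorIdeal (ygen σ) (span_ygen σ) j, relations_ygen, minorIdeal_rows]

end dual

/-- S14347 -/
theorem fittingIdeal_coker_dual_shift (σ : (Fin m → R) →ₗ[R] (Fin n → R))
    (hσ : Function.Injective σ) :
    (∀ j : ℕ, Fitt.ideal R ((Fin n → R) ⧸ LinearMap.range σ) (n - m + j) =
        Fitt.ideal R (Module.Dual R (Fin m → R) ⧸ LinearMap.range σ.dualMap) j) ∧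
      ∀ i : ℕ, i < n - m → Fitt.ideal R ((Fin n → R) ⧸ LinearMap.range σ) i = ⊥ := by
  constructor
  · intro j
    rcases subsingleton_or_nontrivial R with hR | hR
    · ext x
      have : ∀ y : R, y = 0 := fun y => Subsingleton.elim y 0
      simp [this x]
    · have hmn : m ≤ n := le_of_fin_injective R σ hσ
      rw [fitt_coker, fitt_dual_coker]
      congr 1
      omega
  · intro i hi
    rw [fitt_coker]
    exact minors_eq_bot_of_lt _ _ (by omega)

end Groth.Agent.H71.FittX
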