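import Groth.Agent.Lead.FittingLoc
import Mathlib

set_option autoImplicit false
set_option linter.unusedSectionVars false

open Groth.Agent.Lead Matrix

namespace Groth.Agent.H71.FittX

universe u

variable {R : Type u} [CommRing R] {m n : ℕ}

/-- the ideal of generalized `p × p` minors of a matrix -/
def minors (S : Matrix (Fin n) (Fin m) R) (p : ℕ) : Ideal R :=
  Ideal.span {d | ∃ (e : Fin p → Fin n) (c : Fin p → Fin m), d = (S.submatrix e c).det}

lemma minors_eq_bot_of_lt (S : Matrix (Fin n) (Fin m) R) (p : ℕ) (hp : m < p) :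
    minors S p = ⊥ := by
  rw [minors, Ideal.span_eq_bot]
  rintro d ⟨e, c, rfl⟩
  have hc : ¬ Function.Injective c := by
    intro hinj
    have := Fintype.card_le_of_injective c hinj
    simp at this
    omega
  rw [Function.Injective] at hc
  push Not at hc
  obtain ⟨i, j, hij, hne⟩ := hc
  exact Matrix.det_zero_of_column_eq hne (fun k => by simp [hij])

/-- minor ideal of the span of the columns -/
lemma minorIdeal_cols (S : Matrix (Fin n) (Fin m) R) (p : ℕ) :
    minorIdeal (Submodule.span R (Set.range fun l : Fin m => fun i : Fin n => S i l)) p =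
      minors S p := by
  rw [minorIdeal_span, minors]
  congr 1
  ext d
  constructor
  · rintro ⟨z, e, hz, rfl⟩
    choose c hc using hz
    refine ⟨e, c, ?_⟩
    congr 1
    ext a b
    simp [← hc b]
  · rintro ⟨e, c, rfl⟩
    refine ⟨fun b => fun i => S i (c b), e, fun b => ⟨c b, rfl⟩, ?_⟩
    congr 1

/-- minor ideal of the span of the rows -/
lemma minorIdeal_rows (S : Matrix (Fin n) (Fin m) R) (p : ℕ) :
    minorIdeal (Submodule.span R (Set.range fun i : Fin n => fun l : Fin m => S i l)) p =
      minors S p := by
  rw [minorIdeal_span, minors]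
  congr 1
  ext d
  constructor
  · rintro ⟨z, e, hz, rfl⟩
    choose c hc using hz
    refine ⟨c, e, ?_⟩
    rw [← Matrix.det_transpose]
    congr 1
    ext a b
    simp [← hc a]
  · rintro ⟨e, c, rfl⟩
    refine ⟨fun b => fun l => S (e b) l, c, fun b => ⟨e b, rfl⟩, ?_⟩
    rw [← Matrix.det_transpose]
    congr 1

end Groth.Agent.H71.FittX
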